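import Mathlib

/-! Étale local structure of algebras of finite type: finite local pieces and a remainder. -/

set_option autoImplicit false

universe u

open scoped TensorProduct

namespace Groth.Agent.EtLocStr

/-- The minimal primes over `p`. -/
def mins {R : Type u} [CommRing R] (p : Ideal R) (S : Type u) [CommRing S] [Algebra R S] :
    Set (p.primesOver S) :=
  {q | IsMin q}

theorem mins_finite {R : Type u} [CommRing R] (p : Ideal R) [p.IsPrime] (S : Type u) [CommRing S] [Algebra R S]
    [Algebra.FiniteType R S] : (mins p S).Finite := by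
  haveI : IsNoetherianRing (p.Fiber S) := Algebra.FiniteType.isNoetherianRing p.ResidueField _
  let α := PrimeSpectrum.primesOverOrderIsoFiber R S p
  refine Set.Finite.of_injOn (f := fun q => (α q).asIdeal) (t := minimalPrimes (p.Fiber S)) (fun q hq => ?_)
    (fun q _ q' _ h => α.injective (PrimeSpectrum.ext h)) (minimalPrimes.finite_of_isNoetherianRing _)
  exact PrimeSpectrum.isMin_iff.1 (fun y hy => by
    have h1 : α.symm y ≤ q := by
      rw [← α.symm_apply_apply q]
      exact α.symm.monotone hy
    have h2 := hq h1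
    rw [← α.apply_symm_apply y]
    exact α.monotone h2)

/-- Transport of uniqueness of a prime over a residually trivial neighbourhood. -/
theorem existsUnique_tensor {R : Type u} [CommRing R] {R' : Type u} [CommRing R'] [Algebra R R'] (p : Ideal R)
    [p.IsPrime] (P : Ideal R') [P.IsPrime] [P.LiesOver p]
    (H : Function.Bijective (Ideal.ResidueField.mapₐ p P (Algebra.ofId _ _) (P.over_def p)))
    (A : Type u) [CommRing A] [Algebra R A] (hA : ∃! r : Ideal A, r.IsPrime ∧ r.comap (algebraMap R A) = p) :
    ∃! r : Ideal (R' ⊗[R] A), r.IsPrime ∧ r.comap (algebraMap R' (R' ⊗[R] A)) = P := by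
  obtain ⟨r₀, ⟨hr₀, hr₀'⟩, huniq⟩ := hA
  let G := Ideal.fiberIsoOfBijectiveResidueField H (S := A)
  let x₀ : p.primesOver A := ⟨r₀, hr₀, ⟨hr₀'.symm⟩⟩
  refine ⟨(G.symm x₀).1, ⟨(G.symm x₀).2.1, ((G.symm x₀).2.2.over).symm⟩, fun r hr => ?_⟩
  let x : P.primesOver (R' ⊗[R] A) := ⟨r, hr.1, ⟨hr.2.symm⟩⟩
  have h : G x = x₀ := Subtype.ext (huniq _ ⟨(G x).2.1, ((G x).2.2.over).symm⟩)
  rw [← h, OrderIso.symm_apply_apply]

theorem closure_range_eq_top {R : Type u} [CommRing R] {R' : Type u} [CommRing R'] [Algebra R R'] (p : Ideal R)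
    [p.IsPrime] (P : Ideal R') [P.IsPrime] [P.LiesOver p]
    (H : Function.Bijective (Ideal.ResidueField.mapₐ p P (Algebra.ofId _ _) (P.over_def p))) :
    Subfield.closure (Set.range (algebraMap R P.ResidueField)) = ⊤ := by
  refine eq_top_iff.2 fun y _ => ?_
  obtain ⟨x, rfl⟩ := H.2 y
  obtain ⟨a, b, -, rfl⟩ := IsFractionRing.div_surjective (R ⧸ p) x
  obtain ⟨a, rfl⟩ := Ideal.Quotient.mk_surjective a
  obtain ⟨b, rfl⟩ := Ideal.Quotient.mk_surjective b
  rw [map_div₀]
  have h : ∀ c : R, Ideal.ResidueField.mapₐ p P (Algebra.ofId _ _) (P.over_def p)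
      (algebraMap (R ⧸ p) p.ResidueField (Ideal.Quotient.mk p c)) = algebraMap R P.ResidueField c := fun c => by
    rw [← Ideal.Quotient.algebraMap_eq, ← IsScalarTower.algebraMap_apply, AlgHom.commutes]
  rw [h, h]
  exact div_mem (Subfield.subset_closure ⟨a, rfl⟩) (Subfield.subset_closure ⟨b, rfl⟩)

/-- The factors of a product indexed by `Fin (n+1)`. -/
def consTy {n : ℕ} (A₀ : Type u) (A : Fin n → Type u) : Fin (n + 1) → Type u :=
  Fin.cases A₀ A

instance consRing {n : ℕ} (A₀ : Type u) [CommRing A₀] (A : Fin n → Type u) [∀ i, CommRing (A i)] :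
    ∀ i, CommRing (consTy A₀ A i) :=
  Fin.cases (motive := fun i => CommRing (consTy A₀ A i)) (inferInstanceAs (CommRing A₀))
    fun i => inferInstanceAs (CommRing (A i))

instance consAlg {n : ℕ} (R : Type u) [CommRing R] (A₀ : Type u) [CommRing A₀] [Algebra R A₀] (A : Fin n → Type u)
    [∀ i, CommRing (A i)] [∀ i, Algebra R (A i)] : ∀ i, Algebra R (consTy A₀ A i) :=
  Fin.cases (motive := fun i => Algebra R (consTy A₀ A i)) (inferInstanceAs (Algebra R A₀))
    fun i => inferInstanceAs (Algebra R (A i))

/-- Splitting off the first factor. -/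
def consEquiv {n : ℕ} (R : Type u) [CommRing R] (A₀ : Type u) [CommRing A₀] [Algebra R A₀] (A : Fin n → Type u)
    [∀ i, CommRing (A i)] [∀ i, Algebra R (A i)] : (A₀ × ∀ i, A i) ≃ₐ[R] ∀ i, consTy A₀ A i where
  toFun x := Fin.cases (motive := consTy A₀ A) x.1 x.2
  invFun f := (f 0, fun i => f i.succ)
  left_inv _ := rfl
  right_inv f := by
    funext i
    cases i using Fin.cases <;> rfl
  map_mul' x y := by
    funext i
    cases i using Fin.cases <;> rfl
  map_add' x y := by
    funext i
    cases i using Fin.cases <;> rfl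
  commutes' r := by
    funext i
    cases i using Fin.cases <;> rfl

/-- Reassociation of a product of algebras. -/
def prodAssoc' (R : Type u) [CommRing R] (A B C : Type u) [CommRing A] [Algebra R A] [CommRing B] [Algebra R B]
    [CommRing C] [Algebra R C] : ((A × B) × C) ≃ₐ[R] A × (B × C) where
  toFun x := (x.1.1, (x.1.2, x.2))
  invFun x := ((x.1, x.2.1), x.2.2)
  left_inv _ := rfl
  right_inv _ := rfl
  map_mul' _ _ := rfl
  map_add' _ _ := rfl
  commutes' _ := rfl

theorem exists_decomp_aux (N : ℕ) : ∀ (R : Type u) [CommRing R] (S : Type u) [CommRing S] [Algebra R S]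
    [Algebra.FiniteType R S] (p : Ideal R) [p.IsPrime], (mins p S).ncard ≤ N →
    ∃ (R' : Type u) (_ : CommRing R') (_ : Algebra R R') (_ : Algebra.Etale R R') (p' : Ideal R')
      (_ : p'.IsPrime) (_ : p'.LiesOver p) (n : ℕ) (A : Fin n → Type u) (_ : ∀ i, CommRing (A i))
      (_ : ∀ i, Algebra R' (A i)) (B : Type u) (_ : CommRing B) (_ : Algebra R' B),
      Function.Bijective (Ideal.ResidueField.mapₐ p p' (Algebra.ofId _ _) (p'.over_def p)) ∧
      Nonempty ((R' ⊗[R] S) ≃ₐ[R'] ((∀ i, A i) × B)) ∧
        (∀ i, Module.Finite R' (A i) ∧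
          ∃! r : Ideal (A i), r.IsPrime ∧ r.comap (algebraMap R' (A i)) = p') ∧
        ∀ (q : Ideal B) [q.IsPrime], q.comap (algebraMap R' B) = p' →
          ¬ Algebra.QuasiFiniteAt R' q := by
  induction N using Nat.strong_induction_on with
  | _ N ih =>
    intro R _ S _ _ _ p _ hN
    by_cases hex : ∃ q : Ideal S, ∃ _ : q.IsPrime, q.comap (algebraMap R S) = p ∧ Algebra.QuasiFiniteAt R q
    swap
    · push Not at hex
      haveI : p.LiesOver p := ⟨rfl⟩
      refine ⟨R, inferInstance, inferInstance, inferInstance, p, inferInstance, inferInstance, 0,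
        fun _ => PUnit.{u + 1}, inferInstance, inferInstance, S, inferInstance, inferInstance, ?_,
        ⟨?_⟩, fun i => i.elim0, fun q hq h => hex q hq h⟩
      · have hid : Ideal.ResidueField.mapₐ p p (Algebra.ofId R R) (p.over_def p) = AlgHom.id R _ :=
          Ideal.ResidueField.algHom_ext (AlgHom.ext fun r => by simp)
        rw [hid]
        exact Function.bijective_id
      · exact (Algebra.TensorProduct.lid R S).trans
          { toFun := fun s => (fun _ => PUnit.unit, s)
            invFun := fun x => x.2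
            left_inv := fun _ => rfl
            right_inv := fun x => Prod.ext (Subsingleton.elim _ _) rfl
            map_mul' := fun _ _ => Prod.ext (Subsingleton.elim _ _) rfl
            map_add' := fun _ _ => Prod.ext (Subsingleton.elim _ _) rfl
            commutes' := fun _ => Prod.ext (Subsingleton.elim _ _) rfl }
    obtain ⟨q, hqp, hqc, hqf⟩ := hex
    haveI : q.LiesOver p := ⟨hqc.symm⟩
    obtain ⟨R', _, _, _, P, _, _, e, he, P', _, _, hP'q, heP', hbij, hfin, huniq⟩ :=
      Algebra.exists_etale_isIdempotentElem_forall_liesOver_eq p q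
    let T := R' ⊗[R] S
    let A₀ := T ⧸ Ideal.span ({1 - e} : Set T)
    let B₀ := T ⧸ Ideal.span ({e} : Set T)
    haveI : IsLocalization.Away e A₀ := IsLocalization.away_of_isIdempotentElem he (by rw [Ideal.Quotient.algebraMap_eq, Ideal.mk_ker])
      Ideal.Quotient.mk_surjective
    haveI : Module.Finite R' A₀ := Module.Finite.equiv
      ((IsLocalization.algEquiv (Submonoid.powers e) (Localization.Away e) A₀).restrictScalars R').toLinearEquiv
    let F := Ideal.fiberIsoOfBijectiveResidueField hbij (S := S)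
    have hmem : ∀ (I : Ideal (T ⧸ Ideal.span ({e} : Set T))) [I.IsPrime], e ∈ I.comap (Ideal.Quotient.mk _) :=
      fun I _ => by
        rw [Ideal.mem_comap, Ideal.Quotient.eq_zero_iff_mem.2 (Ideal.mem_span_singleton_self e)]
        exact zero_mem _
    let m₀ : P.primesOver B₀ → p.primesOver S := fun Q =>
      haveI := Q.2.1
      F ⟨Q.1.comap (Ideal.Quotient.mk _), inferInstance, ⟨Q.2.2.over.trans (Ideal.comap_comap _ _).symm⟩⟩
    have hm₀ : Function.Injective m₀ := fun Q Q' h => Subtype.ext
      (Ideal.comap_injective_of_surjective _ Ideal.Quotient.mk_surjective (congrArg Subtype.val (F.injective h)))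
    let q₀ : p.primesOver S := ⟨q, inferInstance, inferInstance⟩
    have hq₀ : q₀ ∈ mins p S := fun y hy => by
      haveI := y.2.1
      haveI := y.2.2
      exact (Algebra.QuasiFiniteAt.eq_of_le_of_under_eq (R := R) hy
        (y.2.2.over.symm.trans (q.over_def p))).ge
    have hsub : m₀ '' mins P B₀ ⊆ mins p S \ {q₀} := by
      rintro _ ⟨Q, hQ, rfl⟩
      haveI := Q.2.1
      refine ⟨fun y hy => ?_, fun h => ?_⟩
      · haveI := (F.symm y).2.1
        have hle : (F.symm y).1 ≤ Q.1.comap (Ideal.Quotient.mk _) := by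
          have := F.symm.monotone hy
          rwa [OrderIso.symm_apply_apply] at this
        have he' : Ideal.span ({e} : Set T) ≤ (F.symm y).1 := by
          rw [Ideal.span_le, Set.singleton_subset_iff]
          rcases Ideal.IsPrime.mem_or_mem (I := (F.symm y).1) inferInstance
            (show e * (1 - e) ∈ (F.symm y).1 by rw [mul_sub, mul_one, he.eq, sub_self]; exact zero_mem _) with h | h
          · exact h
          · exact absurd ((Q.1.comap (Ideal.Quotient.mk _)).add_mem (hle h) (hmem Q.1))
              (by rw [sub_add_cancel]; exact (Ideal.IsPrime.comap _ : (Q.1.comap _).IsPrime).one_notMem)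
        have hcm : ((F.symm y).1.map (Ideal.Quotient.mk _)).comap (Ideal.Quotient.mk (Ideal.span ({e} : Set T))) =
            (F.symm y).1 := by
          rw [Ideal.comap_map_of_surjective' _ Ideal.Quotient.mk_surjective, Ideal.mk_ker, sup_eq_left.2 he']
        let Q' : P.primesOver B₀ := ⟨(F.symm y).1.map (Ideal.Quotient.mk _),
          Ideal.map_isPrime_of_surjective Ideal.Quotient.mk_surjective (by rwa [Ideal.mk_ker]),
          ⟨((F.symm y).2.2.over).trans (by
            conv_lhs => rw [← hcm]
            exact Ideal.comap_comap _ _)⟩⟩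
        have hQ'Q : Q' ≤ Q := by
          show (F.symm y).1.map _ ≤ Q.1
          exact Ideal.map_le_iff_le_comap.2 hle
        have := hQ hQ'Q
        rw [← F.apply_symm_apply y]
        refine F.monotone (show Q.1.comap _ ≤ (F.symm y).1 from ?_)
        rw [← hcm]
        exact Ideal.comap_mono this
      · have h1 : F ⟨P', inferInstance, inferInstance⟩ = q₀ := Subtype.ext (by
          rw [Ideal.comap_fiberIsoOfBijectiveResidueField_apply]
          exact hP'q)
        have h2 := congrArg Subtype.val (F.injective (h.trans h1.symm))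
        have h3 : Q.1.comap (Ideal.Quotient.mk (Ideal.span ({e} : Set T))) = P' := h2
        exact heP' (h3 ▸ hmem Q.1)
    have hlt : (mins P B₀).ncard < N := by
      have h1 := Set.ncard_le_ncard hsub ((mins_finite p S).sdiff)
      rw [Set.ncard_image_of_injective _ hm₀, Set.ncard_sdiff_singleton_of_mem hq₀] at h1
      have h2 : 0 < (mins p S).ncard := (Set.ncard_pos (mins_finite p S)).2 ⟨q₀, hq₀⟩
      omega
    obtain ⟨R'', _, _, _, P'', _, _, n, A, _, _, B, _, _, hbij', ⟨E⟩, hA, hB⟩ :=
      ih _ hlt R' B₀ P le_rfl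
    letI : Algebra R R'' := ((algebraMap R' R'').comp (algebraMap R R')).toAlgebra
    haveI : IsScalarTower R R' R'' := IsScalarTower.of_algebraMap_eq fun _ => rfl
    haveI : Algebra.Etale R R'' := Algebra.Etale.comp R R' R''
    haveI : P''.LiesOver p := .trans _ P _
    have huA : ∃! r : Ideal A₀, r.IsPrime ∧ r.comap (algebraMap R' A₀) = P := by
      have hker : Ideal.span ({1 - e} : Set T) ≤ P' := by
        rw [Ideal.span_le, Set.singleton_subset_iff]
        exact ((inferInstance : P'.IsPrime).mem_or_mem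
          (show e * (1 - e) ∈ P' by rw [mul_sub, mul_one, he.eq, sub_self]; exact zero_mem _)).resolve_left heP'
      have hcm : (P'.map (Ideal.Quotient.mk (Ideal.span ({1 - e} : Set T)))).comap (Ideal.Quotient.mk _) = P' := by
        rw [Ideal.comap_map_of_surjective' _ Ideal.Quotient.mk_surjective, Ideal.mk_ker, sup_eq_left.2 hker]
      refine ⟨P'.map (Ideal.Quotient.mk _), ⟨Ideal.map_isPrime_of_surjective Ideal.Quotient.mk_surjective
        (by rwa [Ideal.mk_ker]), ?_⟩, fun r ⟨hr, hr'⟩ => ?_⟩
      · conv_rhs => rw [P'.over_def P, ← hcm]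
        exact (Ideal.comap_comap _ _).symm
      · haveI := hr
        haveI : (r.comap (Ideal.Quotient.mk (Ideal.span ({1 - e} : Set T)))).LiesOver P :=
          ⟨hr'.symm.trans (Ideal.comap_comap _ _).symm⟩
        have h := huniq (r.comap (Ideal.Quotient.mk _)) inferInstance inferInstance fun h => by
          have h1 : (1 - e) ∈ r.comap (Ideal.Quotient.mk (Ideal.span ({1 - e} : Set T))) := by
            rw [Ideal.mem_comap, Ideal.Quotient.eq_zero_iff_mem.2 (Ideal.mem_span_singleton_self (1 - e))]
            exact zero_mem _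
          exact (Ideal.IsPrime.comap _ : (r.comap _).IsPrime).one_notMem (sub_add_cancel (1 : T) e ▸ add_mem h1 h)
        rw [← h, Ideal.map_comap_of_surjective _ Ideal.Quotient.mk_surjective]
    let split : T ≃ₐ[R'] A₀ × B₀ := AlgEquiv.prodQuotientOfIsIdempotentElem (R := R') (e := 1 - e) (f := e) he.one_sub he
      (sub_add_cancel 1 e) (by rw [sub_mul, one_mul, he.eq, sub_self])
    let E₁ : R'' ⊗[R] S ≃ₐ[R''] (R'' ⊗[R'] A₀) × (R'' ⊗[R'] B₀) :=
      ((Algebra.TensorProduct.cancelBaseChange R R' R'' R'' S).symm.trans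
        (Algebra.TensorProduct.congr AlgEquiv.refl split)).trans (Algebra.TensorProduct.prodRight R' R'' R'' A₀ B₀)
    let E₂ : ((R'' ⊗[R'] A₀) × (R'' ⊗[R'] B₀)) ≃ₐ[R''] (∀ i, consTy (R'' ⊗[R'] A₀) A i) × B :=
      ((AlgEquiv.prodCongr AlgEquiv.refl E).trans (prodAssoc' R'' _ _ _).symm).trans
        (AlgEquiv.prodCongr (consEquiv R'' (R'' ⊗[R'] A₀) A) AlgEquiv.refl)
    refine ⟨R'', inferInstance, inferInstance, inferInstance, P'', inferInstance, inferInstance, n + 1,
      consTy (R'' ⊗[R'] A₀) A, inferInstance, inferInstance, B, inferInstance, inferInstance, ?_,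
      ⟨E₁.trans E₂⟩, fun i => ?_, hB⟩
    · convert hbij'.comp hbij
      rw [← AlgHom.coe_toRingHom, ← AlgHom.coe_toRingHom, ← AlgHom.coe_toRingHom, ← RingHom.coe_comp]
      refine congrArg _ (Ideal.ResidueField.ringHom_ext ?_)
      ext r
      simp [IsScalarTower.algebraMap_apply R R' R'', ← IsScalarTower.algebraMap_apply]
    · cases i using Fin.cases with
      | zero => exact ⟨inferInstanceAs (Module.Finite R'' (R'' ⊗[R'] A₀)), existsUnique_tensor P P'' hbij' A₀ huA⟩
      | succ i => exact hA i

end Groth.Agent.EtLocStr
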